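/-
Area UnipCount: the two alternating q-binomial sums behind the count of unipotent symplectic elements.
-/
import Mathlib

set_option autoImplicit false

namespace Cfsg.Agent.UnipCount

open Finset

/-- The Gaussian binomial coefficient as a product of quotients. -/
def qb (q : ℚ) (m d : ℕ) : ℚ := ∏ i ∈ range d, (q ^ (m - i) - 1) / (q ^ (i + 1) - 1)

variable {q : ℚ}

theorem qb_zero (m : ℕ) : qb q m 0 = 1 := by simp [qb]

theorem qb_eq_zero {m d : ℕ} (h : m < d) : qb q m d = 0 :=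
  Finset.prod_eq_zero (mem_range.2 h) (by simp)

theorem qb_succ (m d : ℕ) : qb q m (d + 1) = qb q m d * ((q ^ (m - d) - 1) / (q ^ (d + 1) - 1)) :=
  prod_range_succ _ _

theorem qb_succ_succ (m d : ℕ) :
    qb q (m + 1) (d + 1) = qb q m d * ((q ^ (m + 1) - 1) / (q ^ (d + 1) - 1)) := by
  induction d with
  | zero => simp [qb]
  | succ d ih =>
    rw [qb_succ (m + 1) (d + 1), ih, qb_succ m d, show m + 1 - (d + 1) = m - d by omega]
    ring

theorem qb_pascal (hq : 1 < q) (m d : ℕ) :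
    qb q (m + 1) (d + 1) = qb q m d + q ^ (d + 1) * qb q m (d + 1) := by
  rcases lt_or_ge m d with h | h
  · rw [qb_eq_zero h, qb_eq_zero (by omega : m < d + 1), qb_eq_zero (by omega : m + 1 < d + 1)]; simp
  obtain ⟨k, rfl⟩ := Nat.exists_eq_add_of_le h
  have h0 : q ^ (d + 1) - 1 ≠ 0 := sub_ne_zero.2 (one_lt_pow₀ hq (by omega)).ne'
  rw [qb_succ_succ, qb_succ, Nat.add_sub_cancel_left]
  field_simp
  ring

theorem qb_pascal' (hq : 1 < q) (m d : ℕ) :
    qb q (m + 1) (d + 1) = qb q m (d + 1) + q ^ (m - d) * qb q m d := by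
  rcases lt_or_ge m d with h | h
  · rw [qb_eq_zero h, qb_eq_zero (by omega : m < d + 1), qb_eq_zero (by omega : m + 1 < d + 1)]; simp
  obtain ⟨k, rfl⟩ := Nat.exists_eq_add_of_le h
  have h0 : q ^ (d + 1) - 1 ≠ 0 := sub_ne_zero.2 (one_lt_pow₀ hq (by omega)).ne'
  rw [qb_succ_succ, qb_succ, Nat.add_sub_cancel_left]
  field_simp
  ring

theorem sum_qb_succ (hq : 1 < q) (m : ℕ) (a : ℕ → ℚ) :
    ∑ d ∈ range (m + 2), qb q (m + 1) d * a d
      = ∑ d ∈ range (m + 1), qb q m d * (a (d + 1) + q ^ d * a d) := by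
  have h1 : ∑ d ∈ range (m + 1), qb q m d * (q ^ d * a d)
      = (∑ d ∈ range (m + 1), q ^ (d + 1) * qb q m (d + 1) * a (d + 1)) + a 0 := by
    have : ∑ d ∈ range (m + 1), qb q m d * (q ^ d * a d) = ∑ d ∈ range (m + 2), qb q m d * (q ^ d * a d) := by
      rw [sum_range_succ _ (m + 1), qb_eq_zero (Nat.lt_succ_self m), zero_mul, add_zero]
    rw [this, sum_range_succ' _ (m + 1)]
    congr 1
    · exact sum_congr rfl fun d _ => by ring
    · simp [qb_zero]
  simp only [mul_add, sum_add_distrib]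
  rw [sum_range_succ' _ (m + 1), qb_zero, one_mul, h1, ← add_assoc, ← sum_add_distrib]
  congr 1
  exact sum_congr rfl fun d _ => by rw [qb_pascal hq]; ring

theorem sum_qb_succ' (hq : 1 < q) (m : ℕ) (a : ℕ → ℚ) :
    ∑ d ∈ range (m + 2), qb q (m + 1) d * a d
      = ∑ d ∈ range (m + 1), qb q m d * (a d + q ^ (m - d) * a (d + 1)) := by
  have h1 : ∑ d ∈ range (m + 1), qb q m d * a d
      = (∑ d ∈ range (m + 1), qb q m (d + 1) * a (d + 1)) + a 0 := by
    have : ∑ d ∈ range (m + 1), qb q m d * a d = ∑ d ∈ range (m + 2), qb q m d * a d := by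
      rw [sum_range_succ _ (m + 1), qb_eq_zero (Nat.lt_succ_self m), zero_mul, add_zero]
    rw [this, sum_range_succ' _ (m + 1), qb_zero, one_mul]
  simp only [mul_add, sum_add_distrib]
  rw [sum_range_succ' _ (m + 1), qb_zero, one_mul, h1, add_right_comm, ← sum_add_distrib]
  congr 1
  exact sum_congr rfl fun d _ => by rw [qb_pascal' hq]; ring

theorem sum_qb_choose (hq : 1 < q) (m : ℕ) :
    ∀ x : ℚ, ∑ d ∈ range (m + 1), qb q m d * ((-1) ^ d * q ^ d.choose 2 * ∏ j ∈ range d, (q ^ (m - j) * x + 1))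
      = (-x) ^ m * q ^ (m ^ 2) := by
  induction m with
  | zero => intro x; simp [qb_zero]
  | succ m ih =>
    intro x
    rw [sum_qb_succ hq]
    have key : ∀ d ∈ range (m + 1), qb q m d * ((-1) ^ (d + 1) * q ^ (d + 1).choose 2 *
          (∏ j ∈ range (d + 1), (q ^ (m + 1 - j) * x + 1))
        + q ^ d * ((-1) ^ d * q ^ d.choose 2 * ∏ j ∈ range d, (q ^ (m + 1 - j) * x + 1)))
        = -(q ^ (m + 1) * x) *
          (qb q m d * ((-1) ^ d * q ^ d.choose 2 * ∏ j ∈ range d, (q ^ (m - j) * (q * x) + 1))) := by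
      intro d hd
      have hd' := mem_range.1 hd
      have hp : ∏ j ∈ range d, (q ^ (m + 1 - j) * x + 1) = ∏ j ∈ range d, (q ^ (m - j) * (q * x) + 1) :=
        prod_congr rfl fun j hj => by
          rw [show m + 1 - j = m - j + 1 by have := mem_range.1 hj; omega, pow_succ]; ring
      have hc : (d + 1).choose 2 = d + d.choose 2 := by rw [Nat.choose_succ_succ, Nat.choose_one_right]
      have hm : q ^ (m + 1) = q ^ d * q ^ (m + 1 - d) := by rw [← pow_add]; congr 1; omega
      rw [prod_range_succ, hp, hc, hm]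
      ring
    rw [sum_congr rfl key, ← mul_sum, ih, show (m + 1) ^ 2 = m ^ 2 + m + (m + 1) by ring]
    ring

theorem sum_qb_square (hq : 1 < q) (m : ℕ) :
    ∀ x : ℚ, ∑ d ∈ range (m + 1), qb q m d * ((-1) ^ d * q ^ (m - d) ^ 2 * ∏ j ∈ range d, (q ^ (m - j) + x))
      = (-x) ^ m := by
  induction m with
  | zero => intro x; simp [qb_zero]
  | succ m ih =>
    intro x
    rw [sum_qb_succ' hq]
    have hq0 : q ≠ 0 := by linarith
    have key : ∀ d ∈ range (m + 1), qb q m d *
        ((-1) ^ d * q ^ (m + 1 - d) ^ 2 * (∏ j ∈ range d, (q ^ (m + 1 - j) + x))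
        + q ^ (m - d) * ((-1) ^ (d + 1) * q ^ (m + 1 - (d + 1)) ^ 2 *
          ∏ j ∈ range (d + 1), (q ^ (m + 1 - j) + x)))
        = -(q ^ m * x) *
          (qb q m d * ((-1) ^ d * q ^ (m - d) ^ 2 * ∏ j ∈ range d, (q ^ (m - j) + x / q))) := by
      intro d hd
      have hd' := mem_range.1 hd
      have hp : ∏ j ∈ range d, (q ^ (m + 1 - j) + x) = q ^ d * ∏ j ∈ range d, (q ^ (m - j) + x / q) := by
        rw [show q ^ d = ∏ _j ∈ range d, q by simp, ← prod_mul_distrib]
        refine prod_congr rfl fun j hj => ?_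
        rw [show m + 1 - j = m - j + 1 by have := mem_range.1 hj; omega, pow_succ]
        field_simp
      obtain ⟨k, rfl⟩ := Nat.exists_eq_add_of_le (Nat.lt_succ_iff.1 hd')
      rw [prod_range_succ, hp, show d + k + 1 - d = k + 1 by omega, show d + k + 1 - (d + 1) = k by omega,
        Nat.add_sub_cancel_left]
      ring
    rw [sum_congr rfl key, ← mul_sum, ih, neg_pow x (m + 1), neg_pow (x / q) m, div_pow]
    field_simp
    ring

end Cfsg.Agent.UnipCount
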