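/-
Area UnipCount: the number of unipotent elements of a finite symplectic group.
-/
import Cfsg.Agent.Lib.Forms.FrameCounts
import Cfsg.Agent.Lib.UnipCount.QSum

set_option autoImplicit false

namespace Cfsg.Agent.UnipCount

open Forms Finset

variable {F : Type*} [Field F]

/-- Linear automorphisms `g` with `g - 1` nilpotent. -/
def IsUnip {V : Type*} [AddCommGroup V] [Module F V] (g : V ≃ₗ[F] V) : Prop :=
  IsNilpotent ((g.toLinearMap : Module.End F V) - 1)

theorem isUnip_conj {V W : Type*} [AddCommGroup V] [Module F V] [AddCommGroup W] [Module F W] (e : V ≃ₗ[F] W)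
    (g : V ≃ₗ[F] V) : IsUnip ((e.symm.trans g).trans e) ↔ IsUnip g := by
  have h : (((e.symm.trans g).trans e).toLinearMap : Module.End F W) - 1
      = e.conjAlgEquiv F ((g.toLinearMap : Module.End F V) - 1) := by
    ext x
    simp [LinearEquiv.conjAlgEquiv_apply, map_sub]
  rw [IsUnip, IsUnip, h]
  exact IsNilpotent.map_iff (e.conjAlgEquiv F).injective

/-- The number of unipotent elements of `Sp_{2m}`. -/
noncomputable def nUnip (m : ℕ) (F : Type*) [Field F] : ℕ :=
  Nat.card {g : isom F (sympForm m F) // IsUnip g.1}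

/-- The number of unipotent isometries fixing a tuple. -/
noncomputable def nFix {κ : Type*} {V : Type*} [AddCommGroup V] [Module F V] (f : V → V → F) (v : κ → V) : ℕ :=
  Nat.card {g : isom F f // IsUnip g.1 ∧ ∀ i, g.1 (v i) = v i}

theorem nFix_congr {κ : Type*} {V W : Type*} [AddCommGroup V] [Module F V] [AddCommGroup W] [Module F W]
    {f : V → V → F} {f' : W → W → F} (e : V ≃ₗ[F] W) (h : ∀ u v, f' (e u) (e v) = f u v) (v : κ → V) :
    nFix f v = nFix f' (fun i => e (v i)) := by
  refine Nat.card_congr (Equiv.subtypeEquiv (isomCongr e h).toEquiv fun g => ?_)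
  show _ ↔ IsUnip ((e.symm.trans g.1).trans e) ∧ ∀ i, e (g.1 (e.symm (e (v i)))) = e (v i)
  rw [isUnip_conj]
  simp

/-! ### The stabiliser of the first vector -/

section Step

variable (m : ℕ)

local notation "W" => (Fin m ⊕ Fin m → F)

theorem sympForm_add_left (u u' w : W) : sympForm m F (u + u') w = sympForm m F u w + sympForm m F u' w := by
  simp [← sympB_apply]

theorem sympForm_add_right (u w w' : W) : sympForm m F u (w + w') = sympForm m F u w + sympForm m F u w' := by
  simp [← sympB_apply]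

theorem sympForm_smul_left (c : F) (u w : W) : sympForm m F (c • u) w = c * sympForm m F u w := by
  simp [← sympB_apply]

theorem sympForm_smul_right (c : F) (u w : W) : sympForm m F u (c • w) = c * sympForm m F u w := by
  simp [← sympB_apply]

theorem sympForm_self (u : W) : sympForm m F u u = 0 := by rw [← sympB_apply]; exact sympB_isAlt m u

theorem sympForm_swap (u w : W) : sympForm m F w u = -sympForm m F u w := by
  rw [← sympB_apply, ← sympB_apply, LinearMap.BilinForm.IsAlt.neg_eq (sympB_isAlt m)]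

/-- The element of the stabiliser of `((1,0),0)` with parameters `t`, `u`, `A`. -/
noncomputable def stabEquiv (t : F) (u : W) (A : W ≃ₗ[F] W) : ((F × F) × W) ≃ₗ[F] (F × F) × W where
  toFun p := ((p.1.1 + p.1.2 * t - sympForm m F u (A p.2), p.1.2), p.1.2 • u + A p.2)
  invFun p := ((p.1.1 - p.1.2 * t + sympForm m F u (p.2 - p.1.2 • u), p.1.2), A.symm (p.2 - p.1.2 • u))
  map_add' p p' := by
    simp only [Prod.fst_add, Prod.snd_add, map_add, sympForm_add_right, add_smul, Prod.mk_add_mk]
    congr 1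
    · congr 1; ring
    · abel
  map_smul' c p := by
    simp only [Prod.smul_fst, Prod.smul_snd, map_smul, sympForm_smul_right, smul_eq_mul, RingHom.id_apply,
      Prod.smul_mk, smul_add, smul_smul]
    congr 2; ring
  left_inv p := by
    simp only [add_sub_cancel_left, LinearEquiv.symm_apply_apply]
    refine Prod.ext (Prod.ext ?_ rfl) rfl
    show p.1.1 + p.1.2 * t - _ - p.1.2 * t + _ = p.1.1
    ring
  right_inv p := by
    simp only [LinearEquiv.apply_symm_apply, add_sub_cancel]
    refine Prod.ext (Prod.ext ?_ rfl) rfl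
    show p.1.1 - p.1.2 * t + _ + p.1.2 * t - _ = p.1.1
    ring

variable {m}

theorem stabEquiv_apply (t : F) (u : W) (A : W ≃ₗ[F] W) (p : (F × F) × W) :
    stabEquiv m t u A p = ((p.1.1 + p.1.2 * t - sympForm m F u (A p.2), p.1.2), p.1.2 • u + A p.2) := rfl

theorem stabEquiv_mem (t : F) (u : W) {A : W ≃ₗ[F] W} (hA : A ∈ isom F (sympForm m F)) :
    stabEquiv m t u A ∈ isom F (sympSplit m F) := by
  intro p p'
  simp only [stabEquiv_apply, sympSplit, sympForm_add_left, sympForm_add_right, sympForm_smul_left,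
    sympForm_smul_right, sympForm_self, hA p.2 p'.2, sympForm_swap m u (A p.2)]
  ring

theorem stab_shape {g : ((F × F) × W) ≃ₗ[F] (F × F) × W} (hg : g ∈ isom F (sympSplit m F))
    (he : g ((1, 0), 0) = ((1, 0), 0)) :
    ∃ (t : F) (u : W) (A : W ≃ₗ[F] W), A ∈ isom F (sympForm m F) ∧ g = stabEquiv m t u A := by
  have h0 : ∀ u : W, sympForm m F u 0 = 0 := fun u => by simp [sympForm]
  have hb : ∀ p, (g p).1.2 = p.1.2 := fun p => by
    have := hg p ((1, 0), 0)
    rw [he] at this
    simpa [sympSplit, h0] using this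
  let u : W := (g ((0, 1), 0)).2
  let t : F := (g ((0, 1), 0)).1.1
  let T : W →ₗ[F] W := (LinearMap.snd F _ _).comp (g.toLinearMap.comp (LinearMap.inr F (F × F) W))
  have hT : ∀ w w', sympForm m F (T w) (T w') = sympForm m F w w' := fun w w' => by
    have := hg (0, w) (0, w')
    simp only [sympSplit, hb] at this
    simpa [T] using this
  obtain ⟨A, hA, hAT⟩ := (sympB_polar m).exists_isom T (fun w w' => by rw [sympB_apply, sympB_apply, hT])
  rw [form2_sympB] at hA
  refine ⟨t, u, A, hA, LinearEquiv.ext fun p => ?_⟩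
  have hw : ∀ w : W, g (0, w) = ((-sympForm m F u (A w), 0), A w) := fun w => by
    have h := hg ((0, 1), 0) (0, w)
    simp only [sympSplit, hb] at h
    have h2 : (g (0, w)).2 = A w := by rw [hAT]; rfl
    rw [h2] at h
    have h0' : sympForm m F 0 w = 0 := by rw [← sympB_apply]; simp
    simp [h0'] at h
    refine Prod.ext (Prod.ext ?_ (hb _)) h2
    show (g (0, w)).1.1 = -sympForm m F u (A w)
    linear_combination h
  have hp : p = p.1.1 • ((1, 0), (0 : W)) + p.1.2 • ((0, 1), (0 : W)) + ((0, p.2) : (F × F) × W) := by simp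
  conv_lhs => rw [hp, map_add, map_add, map_smul, map_smul, he, hw]
  rw [show g ((0, 1), 0) = ((t, 1), u) from Prod.ext (Prod.ext rfl (hb _)) rfl, stabEquiv_apply]
  simp [sub_eq_add_neg]

theorem isUnip_stabEquiv (t : F) (u : W) (A : W ≃ₗ[F] W) : IsUnip (stabEquiv m t u A) ↔ IsUnip A := by
  set N : Module.End F ((F × F) × W) := (stabEquiv m t u A).toLinearMap - 1 with hN
  set M : Module.End F W := A.toLinearMap - 1 with hM
  have happ : ∀ p, N p = ((p.1.2 * t - sympForm m F u (A p.2), 0), p.1.2 • u + M p.2) := fun p => by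
    show stabEquiv m t u A p - p = _
    rw [stabEquiv_apply]
    refine Prod.ext (Prod.ext ?_ ?_) ?_
    · show _ - p.1.1 = _; ring
    · show p.1.2 - p.1.2 = _; ring
    · show p.1.2 • u + A p.2 - p.2 = p.1.2 • u + (A p.2 - p.2)
      abel
  have hk : ∀ k : ℕ, ∀ p : (F × F) × W, p.1.2 = 0 →
      ((N ^ k) p).1.2 = 0 ∧ ((N ^ k) p).2 = (M ^ k) p.2 := by
    intro k
    induction k with
    | zero => exact fun p hp => ⟨hp, rfl⟩
    | succ k ih =>
      intro p hp
      obtain ⟨h1, h2⟩ := ih p hp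
      rw [pow_succ', pow_succ', Module.End.mul_apply, Module.End.mul_apply, happ, h1, h2]
      simp
  show IsNilpotent N ↔ IsNilpotent M
  constructor
  · rintro ⟨n, hn⟩
    refine ⟨n, LinearMap.ext fun w => ?_⟩
    have h := (hk n (0, w) rfl).2
    rw [hn] at h
    simpa using h.symm
  · rintro ⟨n, hn⟩
    refine ⟨n + 2, LinearMap.ext fun p => ?_⟩
    rw [show n + 2 = 1 + (n + 1) by ring, pow_add, pow_add, pow_one, Module.End.mul_apply, Module.End.mul_apply]
    have hp : (N p).1.2 = 0 := by rw [happ]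
    obtain ⟨h1, h2⟩ := hk n (N p) hp
    rw [happ, h1, h2, hn]
    simp [sympForm]

/-- The kernel of pairing with an independent tuple. -/
theorem card_perp_tuple [Finite F] {d : ℕ} (w : Fin d → W) (hw : LinearIndependent F w) :
    Nat.card {u : W // ∀ i, sympForm m F u (w i) = 0} = Nat.card F ^ (2 * m - d) := by
  let S : Submodule F W := Submodule.span F (Set.range w)
  have hE : ∀ u : W, (∀ i, sympForm m F u (w i) = 0) ↔ u ∈ LinearMap.BilinForm.orthogonal (sympB m F) S := by
    intro u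
    rw [LinearMap.BilinForm.mem_orthogonal_iff]
    constructor
    · intro h x hx
      show sympB m F x u = 0
      induction hx using Submodule.span_induction with
      | mem y hy => obtain ⟨i, rfl⟩ := hy; rw [sympB_apply, sympForm_swap, h, neg_zero]
      | zero => simp
      | add a b _ _ ha hb => simp [ha, hb]
      | smul c a _ ha => simp [ha]
    · intro h i
      have h' : sympB m F (w i) u = 0 := h (w i) (Submodule.subset_span ⟨i, rfl⟩)
      rw [sympB_apply] at h'
      rw [sympForm_swap, h', neg_zero]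
  rw [Nat.card_congr (Equiv.subtypeEquivRight hE),
    Module.natCard_eq_pow_finrank (K := F) (V := ↥(LinearMap.BilinForm.orthogonal (sympB m F) S)),
    LinearMap.BilinForm.finrank_orthogonal (sympB_nondegenerate m),
    Module.finrank_fintype_fun_eq_card, Fintype.card_sum, Fintype.card_fin, finrank_span_eq_card hw,
    Fintype.card_fin, two_mul]

theorem nFix_cons [Finite F] {d : ℕ} (w : Fin d → W) (hw : LinearIndependent F w) :
    nFix (sympSplit m F) (Fin.cons ((1, 0), 0) fun i => (0, w i) : Fin (d + 1) → (F × F) × W)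
      = Nat.card F * Nat.card F ^ (2 * m - d) * nFix (sympForm m F) w := by
  haveI : Fintype F := Fintype.ofFinite F
  rw [← card_perp_tuple w hw, nFix, nFix]
  simp only [← Nat.card_prod]
  have h0 : ∀ u : W, sympForm m F u 0 = 0 := fun u => by simp [sympForm]
  have hfix : ∀ t u A, (∀ i, stabEquiv m t u A ((Fin.cons ((1, 0), 0) fun i => (0, w i) :
        Fin (d + 1) → (F × F) × W) i) = (Fin.cons ((1, 0), 0) fun i => (0, w i) :
        Fin (d + 1) → (F × F) × W) i) ↔ (∀ i, sympForm m F u (w i) = 0) ∧ ∀ i, A (w i) = w i := by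
    intro t u A
    simp only [Fin.forall_fin_succ, Fin.cons_zero, Fin.cons_succ, stabEquiv_apply]
    constructor
    · rintro ⟨-, h⟩
      have hA : ∀ i, A (w i) = w i := fun i => by simpa using congrArg Prod.snd (h i)
      exact ⟨fun i => by simpa [hA i] using congrArg (fun p => p.1.1) (h i), hA⟩
    · rintro ⟨h1, h2⟩
      exact ⟨by simp [h0], fun i => by simp [h1 i, h2 i]⟩
  refine (Nat.card_eq_of_bijective (fun p => ⟨⟨stabEquiv m p.1.1 p.1.2.1 p.2.1.1, stabEquiv_mem _ _ p.2.1.2⟩,
    (isUnip_stabEquiv _ _ _).2 p.2.2.1, (hfix _ _ _).2 ⟨p.1.2.2, p.2.2.2⟩⟩) ⟨?_, ?_⟩).symm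
  · intro p p' h
    have h' : stabEquiv m p.1.1 p.1.2.1 p.2.1.1 = stabEquiv m p'.1.1 p'.1.2.1 p'.2.1.1 :=
      congrArg (fun x => x.1.1) h
    have h1 := LinearEquiv.congr_fun h' ((0, 1), 0)
    simp [stabEquiv_apply, h0] at h1
    refine Prod.ext (Prod.ext h1.1 (Subtype.ext h1.2)) (Subtype.ext (Subtype.ext (LinearEquiv.ext fun x => ?_)))
    simpa [stabEquiv_apply] using congrArg Prod.snd (LinearEquiv.congr_fun h' (0, x))
  · rintro ⟨⟨g, hg⟩, hu, hf⟩
    obtain ⟨t, u, A, hA, rfl⟩ := stab_shape hg (by simpa using hf 0)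
    obtain ⟨h1, h2⟩ := (hfix t u A).1 hf
    exact ⟨((t, ⟨u, h1⟩), ⟨⟨A, hA⟩, (isUnip_stabEquiv t u A).1 hu, h2⟩), rfl⟩

end Step

/-- Unipotent isometries fixing a totally isotropic frame. -/
theorem nFix_frame [Finite F] : ∀ (d k : ℕ) (v : Fin d → (Fin (d + k) ⊕ Fin (d + k) → F)), LinearIndependent F v →
    (∀ i j, sympForm (d + k) F (v i) (v j) = 0) →
    nFix (sympForm (d + k) F) v = Nat.card F ^ (2 * d * k + (d + 1).choose 2) * nUnip k F := by
  haveI : Fintype F := Fintype.ofFinite F
  intro d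
  induction d with
  | zero =>
    intro k
    rw [show 0 + k = k from Nat.zero_add k]
    intro v _ _
    simp only [Nat.choose_succ_self, Nat.mul_zero, Nat.zero_mul, Nat.add_zero, pow_zero, one_mul, nFix, nUnip]
    exact Nat.card_congr (Equiv.subtypeEquivRight fun g => ⟨fun h => h.1, fun h => ⟨h, fun i => i.elim0⟩⟩)
  | succ d ih =>
    intro k
    rw [show d + 1 + k = (d + k) + 1 by ring]
    intro v hv hvv
    let w : Fin d → (Fin (d + k) ⊕ Fin (d + k) → F) := fun i => Pi.single (Sum.inl (Fin.castAdd k i)) 1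
    have hw : LinearIndependent F w := by
      have := (Pi.basisFun F (Fin (d + k) ⊕ Fin (d + k))).linearIndependent
      have h2 := this.comp (fun i : Fin d => Sum.inl (Fin.castAdd k i))
        (Sum.inl_injective.comp (Fin.castAdd_injective d k))
      have : w = (fun i => (Pi.basisFun F (Fin (d + k) ⊕ Fin (d + k))) i) ∘
          (fun i : Fin d => Sum.inl (Fin.castAdd k i)) := by
        funext i; simp [w]
      rw [this]
      exact h2
    have hww : ∀ i j, sympForm (d + k) F (w i) (w j) = 0 := fun i j => by simp [sympForm_eq_sum, w]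
    let c : Fin (d + 1) → (F × F) × (Fin (d + k) ⊕ Fin (d + k) → F) := Fin.cons ((1, 0), 0) fun i => (0, w i)
    let e := splitPair (d + k) F
    have hc : LinearIndependent F c := by
      rw [Fintype.linearIndependent_iff]
      intro g hg
      rw [Fin.sum_univ_succ] at hg
      simp only [c, Fin.cons_zero, Fin.cons_succ] at hg
      have h1 := congrArg Prod.snd hg
      simp [Prod.snd_sum] at h1
      have h2 := Fintype.linearIndependent_iff.1 hw _ h1
      refine Fin.cases ?_ h2
      simpa [h2] using congrArg (fun p => p.1.1) hg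
    have h00 : ∀ u : Fin (d + k) ⊕ Fin (d + k) → F, sympForm (d + k) F u 0 = 0 := fun u => by simp [sympForm]
    have h00' : ∀ u : Fin (d + k) ⊕ Fin (d + k) → F, sympForm (d + k) F 0 u = 0 := fun u => by
      rw [sympForm_swap, h00, neg_zero]
    have hcc : ∀ i j, sympSplit (d + k) F (c i) (c j) = 0 := by
      intro i j
      refine Fin.cases ?_ (fun i => ?_) i <;> refine Fin.cases ?_ (fun j => ?_) j <;>
        simp only [c, Fin.cons_zero, Fin.cons_succ, sympSplit, h00, h00', hww, Prod.fst_zero, Prod.snd_zero] <;> ring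
    obtain ⟨g, hg, hgv⟩ := witt_symp_tuple (F := F) (v := v) (w := fun i => e.symm (c i)) hv
      (hc.map' e.symm.toLinearMap e.symm.ker) (fun i j => by
        rw [hvv, ← sympSplit_apply, e.apply_symm_apply, e.apply_symm_apply]
        exact hcc i j)
    rw [nFix_congr g hg v, nFix_congr e (fun a b => sympSplit_apply a b)]
    have hgc : (fun i => e (g (v i))) = c := funext fun i => by rw [hgv i]; exact e.apply_symm_apply (c i)
    rw [hgc, nFix_cons w hw, ih k w hw hww, Nat.choose_succ_succ (d + 1) 1, Nat.choose_one_right,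
      show 2 * (d + k) - d = d + 2 * k by omega,
      show 2 * (d + 1) * k + (d + 1 + (d + 1).choose 2) = 1 + (d + 2 * k) + (2 * d * k + (d + 1).choose 2) by ring,
      pow_add, pow_add]
    ring

theorem nFix_frame' [Finite F] {m d : ℕ} (hd : d ≤ m) (v : Fin d → (Fin m ⊕ Fin m → F))
    (hv : LinearIndependent F v) (hvv : ∀ i j, sympForm m F (v i) (v j) = 0) :
    nFix (sympForm m F) v = Nat.card F ^ (2 * d * (m - d) + (d + 1).choose 2) * nUnip (m - d) F := by
  obtain ⟨k, rfl⟩ := Nat.exists_eq_add_of_le hd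
  rw [Nat.add_sub_cancel_left]
  exact nFix_frame d k v hv hvv

/-! ### Weisner's argument -/

section Weisner

variable [Fintype F] {V : Type*} [AddCommGroup V] [Module F V] [Finite V]

/-- The weight of a subspace of dimension `d`. -/
noncomputable def wt (F : Type*) [Fintype F] (d : ℕ) : ℚ := (-1) ^ d * (Fintype.card F : ℚ) ^ d.choose 2

theorem card_hyperplanes_avoiding [FiniteDimensional F V] {x : V} (Y : Submodule F V) (hxY : x ∈ Y) (hx : x ≠ 0) :
    Nat.card {X : Submodule F V // X ⊔ Submodule.span F {x} = Y ∧ x ∉ X}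
      = Fintype.card F ^ (Module.finrank F Y - 1) := by
  let ev : Module.Dual F Y →ₗ[F] F := Module.Dual.eval F Y ⟨x, hxY⟩
  have hev : ev ≠ 0 := fun h => by
    obtain ⟨φ, hφ, -⟩ := Submodule.exists_dual_map_eq_bot_of_notMem
      (p := (⊥ : Submodule F Y)) (show (⟨x, hxY⟩ : Y) ∉ (⊥ : Submodule F Y) from fun h' =>
        hx (congrArg Subtype.val ((Submodule.mem_bot F).1 h'))) inferInstance
    exact hφ (LinearMap.congr_fun h φ)
  rw [← Subspace.dual_finrank_eq, ← Nat.card_eq_fintype_card, ← card_functional_fibre hev 1]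
  have hf : ∀ φ : {v // ev v = 1}, (LinearMap.ker φ.1).map Y.subtype ⊔ Submodule.span F {x} = Y ∧
      x ∉ (LinearMap.ker φ.1).map Y.subtype := by
    intro φ
    refine ⟨?_, ?_⟩
    ·
      apply le_antisymm
      · exact sup_le (Submodule.map_subtype_le _ _) ((Submodule.span_singleton_le_iff_mem _ _).2 hxY)
      · intro y hy
        refine Submodule.mem_sup.2 ⟨y - φ.1 ⟨y, hy⟩ • x, ⟨⟨y, hy⟩ - φ.1 ⟨y, hy⟩ • ⟨x, hxY⟩, ?_, rfl⟩,
          φ.1 ⟨y, hy⟩ • x, Submodule.smul_mem _ _ (Submodule.mem_span_singleton_self x), sub_add_cancel _ _⟩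
        have h1 : φ.1 ⟨x, hxY⟩ = 1 := φ.2
        rw [SetLike.mem_coe, LinearMap.mem_ker, map_sub, map_smul, h1, smul_eq_mul, mul_one, sub_self]
    ·
      rintro ⟨z, hz, hzx⟩
      have h1 : φ.1 ⟨x, hxY⟩ = 1 := φ.2
      rw [show z = ⟨x, hxY⟩ from Subtype.ext hzx, SetLike.mem_coe, LinearMap.mem_ker, h1] at hz
      exact one_ne_zero hz
  refine (Nat.card_eq_of_bijective
    (fun φ => ⟨(LinearMap.ker φ.1).map Y.subtype, hf φ⟩) ⟨?_, ?_⟩).symm
  · intro φ ψ h
    have hker : LinearMap.ker φ.1 = LinearMap.ker ψ.1 :=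
      Submodule.map_injective_of_injective (Submodule.injective_subtype Y) (congrArg Subtype.val h)
    refine Subtype.ext (LinearMap.ext fun y => ?_)
    have h1 : φ.1 ⟨x, hxY⟩ = 1 := φ.2
    have h2 : ψ.1 ⟨x, hxY⟩ = 1 := ψ.2
    have hy : y - φ.1 y • ⟨x, hxY⟩ ∈ LinearMap.ker φ.1 := by
      rw [LinearMap.mem_ker, map_sub, map_smul, h1, smul_eq_mul, mul_one, sub_self]
    rw [hker, LinearMap.mem_ker, map_sub, map_smul, h2, smul_eq_mul, mul_one, sub_eq_zero] at hy
    exact hy.symm
  · rintro ⟨X, hXY, hxX⟩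
    have hle : X ≤ Y := hXY ▸ le_sup_left
    let X' : Submodule F Y := X.comap Y.subtype
    have hx' : (⟨x, hxY⟩ : Y) ∉ X' := hxX
    obtain ⟨φ, hφx, hφX⟩ := Submodule.exists_dual_map_eq_bot_of_notMem hx' inferInstance
    refine ⟨⟨(φ ⟨x, hxY⟩)⁻¹ • φ, by simp [ev, hφx]⟩, Subtype.ext (le_antisymm ?_ fun z hz => ?_)⟩
    · rintro _ ⟨y, hy, rfl⟩
      obtain ⟨z, hz, s, hs, hzs⟩ := Submodule.mem_sup.1 (hXY.symm ▸ y.2 : (y : V) ∈ X ⊔ Submodule.span F {x})
      obtain ⟨c, rfl⟩ := Submodule.mem_span_singleton.1 hs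
      have hyz : y = ⟨z, hle hz⟩ + c • ⟨x, hxY⟩ := Subtype.ext hzs.symm
      have hφz : φ ⟨z, hle hz⟩ = 0 := by
        have : φ ⟨z, hle hz⟩ ∈ X'.map φ := ⟨_, hz, rfl⟩
        rwa [hφX, Submodule.mem_bot] at this
      have hc : c = 0 := by
        rw [SetLike.mem_coe, LinearMap.mem_ker, LinearMap.smul_apply, hyz, map_add, map_smul, hφz, zero_add,
          smul_eq_mul, smul_eq_mul, mul_comm c, ← mul_assoc, inv_mul_cancel₀ hφx, one_mul] at hy
        exact hy
      show (y : V) ∈ X
      rw [← hzs, hc, zero_smul, add_zero]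
      exact hz
    · refine ⟨⟨z, hle hz⟩, ?_, rfl⟩
      have : φ ⟨z, hle hz⟩ ∈ X'.map φ := ⟨_, hz, rfl⟩
      rw [hφX, Submodule.mem_bot] at this
      simp [this]

theorem sum_weisner [FiniteDimensional F V] (P : Submodule F V → Prop) [DecidablePred P]
    [Fintype (Submodule F V)] {x : V} (hx : x ≠ 0)
    (hle : ∀ X Y : Submodule F V, X ≤ Y → P Y → P X) (hsup : ∀ X, P X → P (X ⊔ Submodule.span F {x})) :
    ∑ X ∈ univ.filter P, wt F (Module.finrank F X) = 0 := by
  classical
  rw [← sum_fiberwise_of_maps_to (t := (univ.filter P).filter (x ∈ ·))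
    (g := fun X : Submodule F V => X ⊔ Submodule.span F {x}) (fun X hX => by
      simp only [mem_filter, mem_univ, true_and] at hX ⊢
      exact ⟨hsup X hX, Submodule.mem_sup_right (Submodule.mem_span_singleton_self x)⟩)]
  refine sum_eq_zero fun Y hY => ?_
  simp only [mem_filter, mem_univ, true_and] at hY
  obtain ⟨hPY, hxY⟩ := hY
  have hY0 : Module.finrank F Y ≠ 0 := by
    rw [Ne, Submodule.finrank_eq_zero]
    intro h; rw [h] at hxY; exact hx (Submodule.mem_bot F |>.1 hxY)
  have hset : (univ.filter P).filter (fun X => X ⊔ Submodule.span F {x} = Y)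
      = insert Y (univ.filter fun X : Submodule F V => X ⊔ Submodule.span F {x} = Y ∧ x ∉ X) := by
    ext X
    simp only [mem_filter, mem_univ, true_and, mem_insert]
    constructor
    · rintro ⟨-, h⟩
      by_cases hxX : x ∈ X
      · exact Or.inl (by rw [← h, eq_comm, sup_eq_left]; exact (Submodule.span_singleton_le_iff_mem _ _).2 hxX)
      · exact Or.inr ⟨h, hxX⟩
    · rintro (rfl | ⟨h, -⟩)
      · exact ⟨hPY, sup_eq_left.2 ((Submodule.span_singleton_le_iff_mem _ _).2 hxY)⟩
      · exact ⟨hle X Y (h ▸ le_sup_left) hPY, h⟩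
  rw [hset, sum_insert (by simp [hxY])]
  have hd : ∀ X ∈ univ.filter (fun X : Submodule F V => X ⊔ Submodule.span F {x} = Y ∧ x ∉ X),
      wt F (Module.finrank F X) = wt F (Module.finrank F Y - 1) := fun X hX => by
    simp only [mem_filter, mem_univ, true_and] at hX
    congr 1
    have h := Submodule.finrank_sup_add_finrank_inf_eq X (Submodule.span F {x})
    have hi : X ⊓ Submodule.span F {x} = ⊥ := by
      rw [eq_bot_iff]; rintro z ⟨hz, hz'⟩
      obtain ⟨c, rfl⟩ := Submodule.mem_span_singleton.1 hz'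
      rcases eq_or_ne c 0 with rfl | hc
      · simp
      · exact absurd (by simpa [smul_smul, hc] using X.smul_mem c⁻¹ hz) hX.2
    rw [hX.1, hi, finrank_bot, finrank_span_singleton hx] at h
    omega
  rw [sum_congr rfl hd, sum_const, ← Fintype.card_subtype, ← Nat.card_eq_fintype_card,
    card_hyperplanes_avoiding Y hxY hx, nsmul_eq_mul]
  obtain ⟨n, hn⟩ := Nat.exists_eq_succ_of_ne_zero hY0
  rw [hn, Nat.succ_sub_one, wt, wt, Nat.choose_succ_succ, Nat.choose_one_right, pow_succ, pow_add]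
  push_cast
  ring

end Weisner

/-- A non-trivial unipotent isometry fixes a non-zero vector orthogonal to all its fixed vectors. -/
theorem exists_fixed_radical {m : ℕ} {g : (Fin m ⊕ Fin m → F) ≃ₗ[F] (Fin m ⊕ Fin m → F)}
    (hg : g ∈ isom F (sympForm m F)) (hu : IsUnip g) (h1 : g ≠ 1) :
    ∃ x : Fin m ⊕ Fin m → F, x ≠ 0 ∧ g x = x ∧ ∀ y, g y = y → sympForm m F x y = 0 := by
  classical
  set N : Module.End F (Fin m ⊕ Fin m → F) := g.toLinearMap - 1 with hN
  have hN0 : N ≠ 0 := fun h => h1 (LinearEquiv.ext fun x => by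
    have := LinearMap.congr_fun h x
    rwa [hN, LinearMap.sub_apply, Module.End.one_apply, LinearMap.zero_apply, sub_eq_zero] at this)
  have hu' : ∃ n, N ^ n = 0 := hu
  set n := Nat.find hu' with hn
  have hn0 : N ^ n = 0 := Nat.find_spec hu'
  have hnpos : 2 ≤ n := by
    rcases n with _ | _ | n
    · exact absurd (by rw [← mul_one N, ← pow_zero N, hn0, mul_zero]) hN0
    · exact absurd (by simpa using hn0) hN0
    · omega
  have hne : N ^ (n - 1) ≠ 0 := Nat.find_min hu' (by omega)
  obtain ⟨y, hy⟩ : ∃ y, (N ^ (n - 1)) y ≠ 0 := by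
    by_contra h; push Not at h; exact hne (LinearMap.ext h)
  refine ⟨_, hy, ?_, fun z hz => ?_⟩
  · rw [← sub_eq_zero]
    show N ((N ^ (n - 1)) y) = 0
    rw [← Module.End.mul_apply, ← pow_succ', show n - 1 + 1 = n by omega, hn0, LinearMap.zero_apply]
  · rw [show n - 1 = 1 + (n - 2) by omega, pow_add, pow_one, Module.End.mul_apply]
    set w := (N ^ (n - 2)) y
    show sympForm m F (g w - w) z = 0
    have h := hg w z
    rw [hz] at h
    rw [← sympB_apply] at h ⊢
    rw [← sympB_apply] at h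
    simp [map_sub, LinearMap.sub_apply, h]

/-- The count of totally isotropic subspaces, over `ℚ`. -/
theorem card_ti [Fintype F] {m d : ℕ} (hd : d ≤ m) :
    (Nat.card {X : Submodule F (Fin m ⊕ Fin m → F) // Module.finrank F X = d ∧
        ∀ u ∈ X, ∀ v ∈ X, sympB m F u v = 0} : ℚ)
      = qb (Fintype.card F : ℚ) m d * ∏ j ∈ range d, ((Fintype.card F : ℚ) ^ (m - j) + 1) := by
  classical
  have hq : 1 < Fintype.card F := Fintype.one_lt_card
  have hq' : (1 : ℚ) < (Fintype.card F : ℚ) := by exact_mod_cast hq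
  have h := card_isoSubspace_mul (B := sympB m F) d
  rw [card_isoFrame_alt (sympB_isAlt m) (sympB_nondegenerate m), Module.finrank_fintype_fun_eq_card,
    Fintype.card_sum, Fintype.card_fin, ← two_mul, Nat.card_eq_fintype_card (α := F)] at h
  have h' := congrArg (Nat.cast (R := ℚ)) h
  push_cast at h'
  set q : ℚ := (Fintype.card F : ℚ) with hqdef
  have hl : ((∏ i : Fin d, (Fintype.card F ^ d - Fintype.card F ^ (i : ℕ)) : ℕ) : ℚ)
      = (∏ i ∈ range d, (q ^ (i + 1) - 1)) * ∏ i ∈ range d, q ^ (d - 1 - i) := by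
    rw [Fin.prod_univ_eq_prod_range (fun i => Fintype.card F ^ d - Fintype.card F ^ i) d,
      ← prod_range_reflect (fun i => Fintype.card F ^ d - Fintype.card F ^ i), Nat.cast_prod, ← prod_mul_distrib]
    refine prod_congr rfl fun i hi => ?_
    have hi' := mem_range.1 hi
    rw [Nat.cast_sub (Nat.pow_le_pow_right (by omega) (by omega)), Nat.cast_pow, Nat.cast_pow,
      show q ^ d = q ^ (d - 1 - i) * q ^ (i + 1) by rw [← pow_add]; congr 1; omega]
    ring
  have hr : ((∏ i ∈ range d, (Fintype.card F ^ (2 * m - 2 * i) - 1) * Fintype.card F ^ (d - 1 - i) : ℕ) : ℚ)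
      = (∏ i ∈ range d, (q ^ (m - i) - 1) * (q ^ (m - i) + 1)) * ∏ i ∈ range d, q ^ (d - 1 - i) := by
    rw [Nat.cast_prod, ← prod_mul_distrib]
    refine prod_congr rfl fun i hi => ?_
    rw [Nat.cast_mul, Nat.cast_sub (Nat.one_le_pow _ _ (by omega)), Nat.cast_pow, Nat.cast_pow, Nat.cast_one,
      show 2 * m - 2 * i = 2 * (m - i) by omega, pow_mul']
    ring
  have h2 := congrArg (Nat.cast (R := ℚ)) h
  rw [Nat.cast_mul, hl, hr] at h2
  have hne : ∏ i ∈ range d, q ^ (d - 1 - i) ≠ 0 := prod_ne_zero_iff.2 fun i _ => pow_ne_zero _ (by linarith)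
  have hne2 : ∏ i ∈ range d, (q ^ (i + 1) - 1) ≠ 0 :=
    prod_ne_zero_iff.2 fun i _ => sub_ne_zero.2 (one_lt_pow₀ hq' (by omega)).ne'
  rw [← mul_assoc] at h2
  have h3 := mul_right_cancel₀ hne h2
  rw [qb, prod_div_distrib, div_mul_eq_mul_div, eq_div_iff hne2, h3, prod_mul_distrib]

/-- Steinberg's count for `Sp_{2m}`. -/
theorem nUnip_eq [Fintype F] (m : ℕ) : nUnip m F = Fintype.card F ^ (2 * m ^ 2) := by
  classical
  induction m using Nat.strong_induction_on with
  | _ m ih =>
  haveI : Finite ((Fin m ⊕ Fin m → F) ≃ₗ[F] (Fin m ⊕ Fin m → F)) :=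
    Finite.of_injective _ DFunLike.coe_injective
  haveI : Finite (Submodule F (Fin m ⊕ Fin m → F)) := Finite.of_injective _ SetLike.coe_injective
  haveI := Fintype.ofFinite (Submodule F (Fin m ⊕ Fin m → F))
  let U := {g : isom F (sympForm m F) // IsUnip g.1}
  haveI : Fintype U := Fintype.ofFinite U
  let TI : Finset (Submodule F (Fin m ⊕ Fin m → F)) := univ.filter fun X => ∀ u ∈ X, ∀ v ∈ X, sympB m F u v = 0
  let S : ℚ := ∑ X ∈ TI, wt F (Module.finrank F X)
  set q : ℚ := (Fintype.card F : ℚ) with hqdef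
  have hq' : (1 : ℚ) < q := by rw [hqdef]; exact_mod_cast Fintype.one_lt_card
  have hdim : ∀ X ∈ TI, Module.finrank F X < m + 1 := by
    intro X hX
    simp only [TI, mem_filter, mem_univ, true_and] at hX
    have hle : X ≤ LinearMap.BilinForm.orthogonal (sympB m F) X :=
      fun u hu => LinearMap.BilinForm.mem_orthogonal_iff.2 fun v hv => hX v hv u hu
    have h := Submodule.finrank_mono hle
    have h2 := Submodule.finrank_le X
    rw [LinearMap.BilinForm.finrank_orthogonal (sympB_nondegenerate m),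
      Module.finrank_fintype_fun_eq_card, Fintype.card_sum, Fintype.card_fin] at h
    rw [Module.finrank_fintype_fun_eq_card, Fintype.card_sum, Fintype.card_fin] at h2
    omega
  have hcount : ∀ d, ((TI.filter fun X : Submodule F (Fin m ⊕ Fin m → F) => Module.finrank F X = d).card : ℚ)
      = Nat.card {X : Submodule F (Fin m ⊕ Fin m → F) // Module.finrank F X = d ∧
        ∀ u ∈ X, ∀ v ∈ X, sympB m F u v = 0} := by
    intro d
    rw [Nat.card_eq_fintype_card, Fintype.card_subtype, filter_filter]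
    congr 2
    exact filter_congr fun X _ => and_comm
  have hS : S = (-1) ^ m * q ^ (m ^ 2) := by
    rw [show S = ∑ d ∈ range (m + 1), ∑ X ∈ TI.filter (fun X : Submodule F (Fin m ⊕ Fin m → F) => Module.finrank F X = d), wt F (Module.finrank F X)
      from (sum_fiberwise_of_maps_to (fun X hX => mem_range.2 (hdim X hX)) _).symm]
    rw [← sum_qb_choose hq' m 1]
    refine sum_congr rfl fun d hd => ?_
    rw [sum_congr rfl fun X hX => by rw [(mem_filter.1 hX).2], sum_const, nsmul_eq_mul, hcount,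
      card_ti (Nat.lt_succ_iff.1 (mem_range.1 hd)), wt]
    simp only [mul_one]
    ring
  let Fix : U → Submodule F (Fin m ⊕ Fin m → F) → Prop := fun g X => ∀ y ∈ X, g.1.1 y = y
  have hleft : ∀ g : U, ∑ X ∈ TI.filter (Fix g), wt F (Module.finrank F X) = if g.1 = 1 then S else 0 := by
    intro g
    split_ifs with h1
    · rw [filter_true_of_mem (fun X _ => ?_)]
      intro y _; rw [h1]; rfl
    · obtain ⟨x, hx, hgx, hxr⟩ := exists_fixed_radical g.1.2 g.2 (fun h => h1 (Subtype.ext h))
      rw [filter_filter]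
      refine sum_weisner _ hx (fun X Y hXY hY => ⟨fun u hu v hv => hY.1 u (hXY hu) v (hXY hv),
        fun y hy => hY.2 y (hXY hy)⟩) ?_
      rintro X ⟨hX1, hX2⟩
      have hfx : ∀ y ∈ X ⊔ Submodule.span F {x}, g.1.1 y = y := by
        intro y hy
        obtain ⟨a, ha, b, hb, rfl⟩ := Submodule.mem_sup.1 hy
        obtain ⟨c, rfl⟩ := Submodule.mem_span_singleton.1 hb
        simp [hX2 a ha, hgx]
      refine ⟨fun u hu v hv => ?_, hfx⟩
      obtain ⟨a, ha, b, hb, rfl⟩ := Submodule.mem_sup.1 hu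
      obtain ⟨c, rfl⟩ := Submodule.mem_span_singleton.1 hb
      obtain ⟨a', ha', b', hb', rfl⟩ := Submodule.mem_sup.1 hv
      obtain ⟨c', rfl⟩ := Submodule.mem_span_singleton.1 hb'
      have e1 : sympB m F x a' = 0 := by rw [sympB_apply]; exact hxr a' (hX2 a' ha')
      have e2 : sympB m F a x = 0 := by
        rw [sympB_apply, sympForm_swap, hxr a (hX2 a ha), neg_zero]
      have e3 : sympB m F x x = 0 := sympB_isAlt m x
      simp [hX1 a ha a' ha', e1, e2, e3]
  have hU1 : ∃ g : U, g.1 = 1 :=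
    ⟨⟨1, ⟨1, by
      show (((1 : (Fin m ⊕ Fin m → F) ≃ₗ[F] _).toLinearMap : Module.End F (Fin m ⊕ Fin m → F)) - 1) ^ 1 = 0
      rw [pow_one]; exact LinearMap.ext fun x => sub_self x⟩⟩, rfl⟩
  have hmain : S = ∑ X ∈ TI, wt F (Module.finrank F X) * ((univ : Finset U).filter (fun g => Fix g X)).card := by
    calc S = ∑ g : U, if g.1 = 1 then S else 0 := by
          obtain ⟨g₀, hg₀⟩ := hU1
          rw [sum_eq_single g₀ (fun g _ hne => if_neg fun h => hne (Subtype.ext (h.trans hg₀.symm)))
            (fun h => absurd (mem_univ _) h), if_pos hg₀]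
      _ = ∑ g : U, ∑ X ∈ TI.filter (Fix g), wt F (Module.finrank F X) := sum_congr rfl fun g _ => (hleft g).symm
      _ = ∑ X ∈ TI, ∑ g ∈ (univ : Finset U).filter (fun g => Fix g X), wt F (Module.finrank F X) :=
          sum_comm' (by intro g X; simp; tauto)
      _ = _ := sum_congr rfl fun X _ => by rw [sum_const, nsmul_eq_mul, mul_comm]
  let val : ℕ → ℚ := fun d => q ^ (2 * d * (m - d) + (d + 1).choose 2) * (nUnip (m - d) F : ℚ)
  have hcnt : ∀ X ∈ TI, (((univ : Finset U).filter (fun g => Fix g X)).card : ℚ) = val (Module.finrank F X) := by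
    intro X hX
    have hdlt := hdim X hX
    simp only [TI, mem_filter, mem_univ, true_and] at hX
    set d := Module.finrank F X with hd
    let b := Module.finBasisOfFinrankEq F X hd.symm
    have hb : LinearIndependent F (fun i => (b i : Fin m ⊕ Fin m → F)) :=
      b.linearIndependent.map' X.subtype X.ker_subtype
    have h := nFix_frame' (Nat.lt_succ_iff.1 hdlt) _ hb
      (fun i j => by rw [← sympB_apply]; exact hX _ (b i).2 _ (b j).2)
    have hiff : ∀ g : U, Fix g X ↔ ∀ i, g.1.1 (b i : Fin m ⊕ Fin m → F) = b i := fun g =>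
      ⟨fun hf i => hf _ (b i).2, fun hf y hy => by
        have hy' : (⟨y, hy⟩ : X) = ∑ i, b.repr ⟨y, hy⟩ i • b i := (b.sum_repr _).symm
        have := congrArg Subtype.val hy'
        simp only [Submodule.coe_sum, Submodule.coe_smul] at this
        rw [this, map_sum]
        exact sum_congr rfl fun i _ => by rw [map_smul, hf i]⟩
    have hcard : ((univ : Finset U).filter (fun g => Fix g X)).card
        = nFix (sympForm m F) (fun i => (b i : Fin m ⊕ Fin m → F)) := by
      rw [← Fintype.card_subtype, ← Nat.card_eq_fintype_card]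
      exact Nat.card_congr ⟨fun g => ⟨g.1.1, g.1.2, (hiff g.1).1 g.2⟩, fun g => ⟨⟨g.1, g.2.1⟩, (hiff ⟨g.1, g.2.1⟩).2 g.2.2⟩,
        fun _ => rfl, fun _ => rfl⟩
    rw [hcard, h, Nat.card_eq_fintype_card]
    simp [val, hqdef]
  have hsum : (-1) ^ m * q ^ (m ^ 2)
      = ∑ d ∈ range (m + 1), qb q m d * (∏ j ∈ range d, (q ^ (m - j) + 1)) * ((-1) ^ d * q ^ d.choose 2 * val d) := by
    rw [← hS, hmain, sum_congr rfl fun X hX => by rw [hcnt X hX],
      ← sum_fiberwise_of_maps_to (fun X hX => mem_range.2 (hdim X hX))]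
    refine sum_congr rfl fun d hd => ?_
    rw [sum_congr rfl fun X hX => by rw [(mem_filter.1 hX).2], sum_const, nsmul_eq_mul, hcount,
      card_ti (Nat.lt_succ_iff.1 (mem_range.1 hd)), wt]
  have hid : (-1) ^ m * q ^ (m ^ 2) = ∑ d ∈ range (m + 1), qb q m d * (∏ j ∈ range d, (q ^ (m - j) + 1))
      * ((-1) ^ d * q ^ (m ^ 2 + (m - d) ^ 2)) := by
    rw [show ((-1 : ℚ)) ^ m = (-(1 : ℚ)) ^ m from rfl, ← sum_qb_square hq' m 1, sum_mul]
    exact sum_congr rfl fun d _ => by ring
  have hrest : ∀ d ∈ range m, (-1 : ℚ) ^ (d + 1) * q ^ (d + 1).choose 2 * val (d + 1)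
      = (-1) ^ (d + 1) * q ^ (m ^ 2 + (m - (d + 1)) ^ 2) := by
    intro d hd
    obtain ⟨k, rfl⟩ := Nat.exists_eq_add_of_le (Nat.succ_le_of_lt (mem_range.1 hd))
    simp only [val, Nat.succ_eq_add_one, Nat.add_sub_cancel_left, ih k (by omega), Nat.cast_pow, ← hqdef]
    rw [mul_assoc, ← pow_add, ← pow_add]
    congr 2
    have hsq : ∀ n : ℕ, n.choose 2 + (n + 1).choose 2 = n ^ 2 := by
      intro n
      induction n with
      | zero => rfl
      | succ n hn =>
        rw [Nat.choose_succ_succ (n + 1) 1, Nat.choose_one_right, Nat.succ_eq_add_one,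
          Nat.choose_succ_succ n 1, Nat.choose_one_right] at *
        nlinarith [hn]
    nlinarith [hsq (d + 1)]
  rw [sum_range_succ'] at hsum hid
  rw [sum_congr rfl fun d hd => by rw [hrest d hd]] at hsum
  have h0 := hsum.symm.trans hid
  simp only [val, qb_zero, prod_range_zero, Nat.choose_zero_succ, pow_zero, one_mul, Nat.sub_zero,
    Nat.mul_zero, Nat.zero_mul, Nat.choose_succ_self, zero_add] at h0
  have h1 : (nUnip m F : ℚ) = q ^ (m ^ 2 + m ^ 2) := add_left_cancel h0
  rw [hqdef, ← two_mul] at h1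
  exact_mod_cast h1

end Cfsg.Agent.UnipCount
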